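import Mathlib
import Groth.Agent.Lib.Helper5.DRing.Coh

set_option autoImplicit false
universe u

namespace Groth.Agent.Helper5.Bez

variable {R : Type u} [CommRing R]

/-- splitting off a projective image -/
noncomputable def splitEquiv {M P : Type u} [AddCommGroup M] [Module R M] [AddCommGroup P] [Module R P]
    (g : M →ₗ[R] P) (s : P →ₗ[R] M) (hs : g ∘ₗ s = LinearMap.id) :
    M ≃ₗ[R] (LinearMap.ker g × P) where
  toFun m := (⟨m - s (g m), by
    rw [LinearMap.mem_ker, map_sub]
    have := LinearMap.congr_fun hs (g m)
    simp only [LinearMap.coe_comp, Function.comp_apply, LinearMap.id_coe, id_eq] at this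
    rw [this, sub_self]⟩, g m)
  map_add' x y := by
    refine Prod.ext (Subtype.ext ?_) ?_
    · simp only [map_add, Prod.fst_add, Submodule.coe_add]; abel
    · simp only [map_add, Prod.snd_add]
  map_smul' r x := by
    refine Prod.ext (Subtype.ext ?_) ?_
    · simp only [map_smul, RingHom.id_apply, Prod.smul_fst, Submodule.coe_smul, smul_sub]
    · simp only [map_smul, RingHom.id_apply, Prod.smul_snd]
  invFun x := x.1.1 + s x.2
  left_inv m := by simp
  right_inv x := by
    obtain ⟨⟨k, hk⟩, p⟩ := x
    have h1 : g k = 0 := hk
    have h2 : g (s p) = p := LinearMap.congr_fun hs p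
    refine Prod.ext (Subtype.ext ?_) ?_
    · simp only [map_add, h1, h2, zero_add, add_sub_cancel_right]
    · simp only [map_add, h1, h2, zero_add]

open Groth.Agent.Helper5.Coh in
theorem free_of_injective_pi [IsDomain R] [IsBezout R] :
    ∀ (n : ℕ) (M : Type u) [AddCommGroup M] [Module R M] [Module.Finite R M]
      (ι : M →ₗ[R] (Fin n → R)), Function.Injective ι → Module.Free R M := by
  intro n
  induction n with
  | zero =>
    intro M _ _ _ ι hι
    have : Subsingleton M := hι.subsingleton
    exact Module.Free.of_subsingleton R M
  | succ n ih =>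
    intro M _ _ _ ι hι
    let f : M →ₗ[R] R := (LinearMap.proj (R := R) (φ := fun _ : Fin (n + 1) => R) 0) ∘ₗ ι
    have hfg : (LinearMap.range f).FG := fg_range f
    have hpr : (LinearMap.range f).IsPrincipal := IsBezout.isPrincipal_of_FG _ hfg
    obtain ⟨a, ha⟩ := hpr
    have hkinj := tail_injective n ι hι
    by_cases ha0 : a = 0
    · -- `f = 0`
      have hf0 : ∀ m, f m = 0 := by
        intro m
        have : f m ∈ LinearMap.range f := ⟨m, rfl⟩
        rw [ha, ha0, Submodule.span_singleton_eq_bot.2 rfl] at this
        exact this
      have hker : LinearMap.ker f = ⊤ := by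
        rw [eq_top_iff]; intro m _; exact hf0 m
      have hfin : Module.Finite R (LinearMap.ker f) := by
        rw [hker]
        exact Module.Finite.equiv (Submodule.topEquiv (R := R) (M := M)).symm
      have hfree : Module.Free R (LinearMap.ker f) := ih (LinearMap.ker f) _ hkinj
      rw [hker] at hfree
      exact Module.Free.of_equiv (Submodule.topEquiv (R := R) (M := M))
    · have hI : Module.Free R (LinearMap.range f) := by
        rw [ha]
        exact Module.Free.of_equiv (LinearEquiv.toSpanNonzeroSingleton R R a ha0)
      obtain ⟨s, hs⟩ := Module.projective_lifting_property f.rangeRestrict LinearMap.id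
        f.surjective_rangeRestrict
      let e := splitEquiv f.rangeRestrict s hs
      have hfin : Module.Finite R (LinearMap.ker f.rangeRestrict) :=
        Module.Finite.of_surjective ((LinearMap.fst R _ _) ∘ₗ e.toLinearMap) (by
          intro k
          refine ⟨e.symm (k, 0), ?_⟩
          simp)
      have hfree : Module.Free R (LinearMap.ker f.rangeRestrict) := by
        rw [LinearMap.ker_rangeRestrict] at hfin ⊢
        exact ih (LinearMap.ker f) _ hkinj
      exact Module.Free.of_equiv e.symm

/-- S7120 -/
theorem s7120 (R : Type u) [CommRing R] [IsDomain R] [IsBezout R]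
    (F : Type u) [AddCommGroup F] [Module R F] [Module.Free R F] (N : Submodule R F) (hN : N.FG) :
    Module.Free R N ∧ Module.Finite R N := by
  classical
  have hfin : Module.Finite R N := Module.Finite.iff_fg.2 hN
  refine ⟨?_, hfin⟩
  let b := Module.Free.chooseBasis R F
  obtain ⟨t, ht⟩ := hN
  let s : Finset (Module.Free.ChooseBasisIndex R F) := t.biUnion (fun x => (b.repr x).support)
  have hsupp : ∀ x ∈ N, b.repr x ∈ Finsupp.supported R R (s : Set _) := by
    intro x hx
    rw [← ht] at hx
    have hle : Submodule.span R (t : Set F) ≤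
        (Finsupp.supported R R (s : Set _)).comap b.repr.toLinearMap := by
      rw [Submodule.span_le]
      intro y hy
      simp only [Submodule.comap_coe, Set.mem_preimage, SetLike.mem_coe, Finsupp.mem_supported]
      intro i hi
      exact Finset.mem_biUnion.2 ⟨y, hy, hi⟩
    exact hle hx
  let φ : N →ₗ[R] (s → R) :=
    (LinearMap.funLeft R R (Subtype.val : s → Module.Free.ChooseBasisIndex R F)) ∘ₗ
      Finsupp.lcoeFun ∘ₗ b.repr.toLinearMap ∘ₗ N.subtype
  have hφ : Function.Injective φ := by
    have key := injective_iff_map_eq_zero φ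
    refine key.2 ?_
    rintro ⟨x, hx⟩ h0
    apply Subtype.ext
    show x = 0
    apply b.repr.injective
    rw [map_zero]
    ext i
    by_cases hi : i ∈ s
    · have := congrFun h0 ⟨i, hi⟩
      simpa [φ, LinearMap.funLeft] using this
    · have h1 := hsupp x hx
      rw [Finsupp.mem_supported] at h1
      have : i ∉ (b.repr x).support := fun h2 => hi (h1 h2)
      simpa using this
  let e : (s → R) ≃ₗ[R] (Fin s.card → R) := LinearEquiv.funCongrLeft R R s.equivFin.symm
  exact free_of_injective_pi s.card N (e.toLinearMap ∘ₗ φ) (e.injective.comp hφ)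

end Groth.Agent.Helper5.Bez
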