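import Mathlib
import Groth.Agent.Lib.Helper5.CAlg.Bez

set_option autoImplicit false
universe u

namespace Groth.Agent.Helper5.Bez

/-- S7122 -/
theorem s7122 (R : Type u) [CommRing R] [IsDomain R] [IsBezout R]
    (n : ℕ) (f : Fin (n + 1) → R) (hf : Ideal.span (Set.range f) = ⊤) :
    ∃ A : Matrix (Fin (n + 1)) (Fin (n + 1)) R, IsUnit A.det ∧ A 0 = f := by
  classical
  -- coefficients with `∑ g i * f i = 1`
  have h1 : (1 : R) ∈ Ideal.span (Set.range f) := by rw [hf]; trivial
  obtain ⟨g, hg⟩ := (Ideal.mem_span_range_iff_exists_fun).1 h1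
  -- the projection `π x = ∑ g i * x i`
  let π : (Fin (n + 1) → R) →ₗ[R] R := ∑ i, g i • LinearMap.proj (R := R) (φ := fun _ => R) i
  have hπ : ∀ x, π x = ∑ i, g i * x i := fun x => by
    simp [π, LinearMap.sum_apply]
  let s : R →ₗ[R] (Fin (n + 1) → R) := LinearMap.toSpanSingleton R _ f
  have hs : π ∘ₗ s = LinearMap.id := by
    apply LinearMap.ext_ring
    simp only [LinearMap.coe_comp, Function.comp_apply, LinearMap.id_coe, id_eq, s,
      LinearMap.toSpanSingleton_apply, one_smul, hπ]
    exact hg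
  let e₁ := splitEquiv π s hs
  -- the kernel is finite free of rank `n`
  have hkfin : Module.Finite R (LinearMap.ker π) :=
    Module.Finite.of_surjective ((LinearMap.fst R _ _) ∘ₗ e₁.toLinearMap) (by
      intro k
      refine ⟨e₁.symm (k, 0), ?_⟩
      simp)
  have hkfree : Module.Free R (LinearMap.ker π) :=
    (s7120 R (Fin (n + 1) → R) (LinearMap.ker π) (Module.Finite.iff_fg.1 hkfin)).1
  have hrank : Module.finrank R (LinearMap.ker π) = n := by
    have h2 := LinearEquiv.finrank_eq e₁
    rw [Module.finrank_prod, Module.finrank_self, Module.finrank_fin_fun] at h2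
    omega
  let b := Module.finBasisOfFinrankEq R (LinearMap.ker π) hrank
  -- the automorphism sending `e₀` to `f`
  let E : (Fin (n + 1) → R) ≃ₗ[R] (Fin (n + 1) → R) :=
    (Fin.consLinearEquiv R (fun _ : Fin (n + 1) => R)).symm ≪≫ₗ
      (LinearEquiv.prodComm R R (Fin n → R)) ≪≫ₗ
      (LinearEquiv.prodCongr b.equivFun.symm (LinearEquiv.refl R R)) ≪≫ₗ e₁.symm
  have hE : E (Pi.single 0 1) = f := by
    have h3 : (Fin.consLinearEquiv R (fun _ : Fin (n + 1) => R)).symm (Pi.single 0 1) = (1, 0) := by
      rw [LinearEquiv.symm_apply_eq]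
      funext i
      refine Fin.cases ?_ (fun j => ?_) i
      · simp
      · simp [Fin.succ_ne_zero]
    simp only [E, LinearEquiv.trans_apply, h3]
    simp [e₁, splitEquiv, s]
  refine ⟨(LinearMap.toMatrix' E.toLinearMap).transpose, ?_, ?_⟩
  · rw [Matrix.det_transpose, LinearMap.det_toMatrix']
    exact E.isUnit_det'
  · funext j
    rw [Matrix.transpose_apply, LinearMap.toMatrix'_apply]
    have := congrFun hE j
    exact this

end Groth.Agent.Helper5.Bez
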