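import Mathlib
import Groth.Agent.S9161

set_option autoImplicit false
universe u
open TensorProduct

namespace Groth.Agent.Helper5.CotSplit
open Algebra Algebra.Extension

variable {R S : Type u} [CommRing R] [CommRing S] [Algebra R S]

/-- Schanuel-type lemma for the naive cotangent complexes of two extensions related by maps both ways -/
theorem nonempty_equiv {P P' : Extension.{u} R S} (f : P.Hom P') (g : P'.Hom P) :
    Nonempty ((P.Cotangent × P'.CotangentSpace) ≃ₗ[S] (P'.Cotangent × P.CotangentSpace)) := by
  refine Groth.Agent.S9161.result S P.Cotangent P.CotangentSpace P'.Cotangent P'.CotangentSpace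
    P.cotangentComplex P'.cotangentComplex (Cotangent.map f) (CotangentSpace.map f)
    (Cotangent.map g) (CotangentSpace.map g) ?_ ?_
    ((Hom.id P).sub (g.comp f)) ?_ ?_ ((Hom.id P').sub (f.comp g)) ?_ ?_
  · exact (CotangentSpace.map_comp_cotangentComplex f).symm
  · exact (CotangentSpace.map_comp_cotangentComplex g).symm
  · rw [← Cotangent.map_sub_map, Cotangent.map_id, Cotangent.map_comp]; rfl
  · have := CotangentSpace.map_sub_map (Hom.id P) (g.comp f)
    rw [CotangentSpace.map_comp] at this
    rw [← CotangentSpace.map_id]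
    exact this
  · rw [← Cotangent.map_sub_map, Cotangent.map_id, Cotangent.map_comp]; rfl
  · have := CotangentSpace.map_sub_map (Hom.id P') (f.comp g)
    rw [CotangentSpace.map_comp] at this
    rw [← CotangentSpace.map_id]
    exact this

/-- a map between polynomial presentations -/
noncomputable def presHom {n m : ℕ} (α : MvPolynomial (Fin n) R →ₐ[R] S) (hα : Function.Surjective α)
    (β : MvPolynomial (Fin m) R →ₐ[R] S) (hβ : Function.Surjective β) :
    (Extension.ofSurjective α hα).Hom (Extension.ofSurjective β hβ) where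
  toRingHom := (MvPolynomial.aeval (fun i => (hβ (α (MvPolynomial.X i))).choose) :
    MvPolynomial (Fin n) R →ₐ[R] MvPolynomial (Fin m) R).toRingHom
  toRingHom_algebraMap x := by
    show (MvPolynomial.aeval _ : MvPolynomial (Fin n) R →ₐ[R] MvPolynomial (Fin m) R)
      (algebraMap R _ x) = _
    rw [AlgHom.commutes]; rfl
  algebraMap_toRingHom x := by
    show β ((MvPolynomial.aeval (fun i => (hβ (α (MvPolynomial.X i))).choose) :
      MvPolynomial (Fin n) R →ₐ[R] MvPolynomial (Fin m) R) x) = α x
    have : β.comp (MvPolynomial.aeval (fun i => (hβ (α (MvPolynomial.X i))).choose) :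
      MvPolynomial (Fin n) R →ₐ[R] MvPolynomial (Fin m) R) = α := by
      apply MvPolynomial.algHom_ext
      intro i
      simp only [AlgHom.comp_apply, MvPolynomial.aeval_X]
      exact (hβ (α (MvPolynomial.X i))).choose_spec
    exact DFunLike.congr_fun this x

/-- the cotangent space of a polynomial presentation is free on the variables -/
noncomputable def spaceEquiv {n : ℕ} (α : MvPolynomial (Fin n) R →ₐ[R] S) (hα : Function.Surjective α) :
    (Extension.ofSurjective α hα).CotangentSpace ≃ₗ[S] (Fin n → S) :=
  letI := α.toAlgebra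
  (Algebra.TensorProduct.basis S (KaehlerDifferential.mvPolynomialBasis R (Fin n))).equivFun

/-- S9162 -/
theorem s9162 (R S : Type u) [CommRing R] [CommRing S]
    [Algebra R S] (n m : ℕ) (α : MvPolynomial (Fin n) R →ₐ[R] S) (hα : Function.Surjective α)
    (β : MvPolynomial (Fin m) R →ₐ[R] S) (hβ : Function.Surjective β) :
    Nonempty (((Algebra.Extension.ofSurjective α hα).Cotangent × (Fin m → S)) ≃ₗ[S]
      ((Algebra.Extension.ofSurjective β hβ).Cotangent × (Fin n → S))) := by
  obtain ⟨e⟩ := nonempty_equiv (presHom α hα β hβ) (presHom β hβ α hα)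
  exact ⟨(LinearEquiv.prodCongr (LinearEquiv.refl S _) (spaceEquiv β hβ).symm) ≪≫ₗ e ≪≫ₗ
    (LinearEquiv.prodCongr (LinearEquiv.refl S _) (spaceEquiv α hα))⟩

end Groth.Agent.Helper5.CotSplit
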