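import Mathlib

set_option autoImplicit false
universe u
open DirectSum

namespace Groth.Agent.Helper5.RDProj

variable {R : Type u} [CommRing R]

/-- the map `R/f → B` determined by an element killed by `f` -/
noncomputable def cyc {B : Type u} [AddCommGroup B] [Module R B] (f : R) (b : B) (hb : f • b = 0) :
    (R ⧸ Ideal.span {f}) →ₗ[R] B :=
  Submodule.liftQ (Ideal.span {f}) (LinearMap.toSpanSingleton R B b) (by
    rw [Ideal.span_le]
    intro x hx
    rw [Set.mem_singleton_iff] at hx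
    subst hx
    simpa using hb)

theorem cyc_mk {B : Type u} [AddCommGroup B] [Module R B] (f : R) (b : B) (hb : f • b = 0) (r : R) :
    cyc f b hb (Ideal.Quotient.mk _ r) = r • b := by
  simp [cyc]
  rfl

theorem lin_ext_cyc {C : Type u} [AddCommGroup C] [Module R C] (f : R)
    (u v : (R ⧸ Ideal.span {f}) →ₗ[R] C) (h : u (Ideal.Quotient.mk _ 1) = v (Ideal.Quotient.mk _ 1)) :
    u = v := by
  apply Submodule.linearMap_qext
  apply LinearMap.ext_ring
  exact h

/-- S7123 -/
theorem s7123 (R : Type u) [CommRing R] (P : Type u)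
    [AddCommGroup P] [Module R P] :
    (∃ (ι : Type u) (f : ι → R) (i : P →ₗ[R] (⨁ j, R ⧸ Ideal.span {f j}))
        (p : (⨁ j, R ⧸ Ideal.span {f j}) →ₗ[R] P), p ∘ₗ i = LinearMap.id) ↔
      ∀ (B C : Type u) [AddCommGroup B] [Module R B] [AddCommGroup C] [Module R C] (π : B →ₗ[R] C),
        Function.Surjective π →
        (∀ (f : R) (b : B), π (f • b) = 0 → ∃ a : B, π a = 0 ∧ f • a = f • b) →
        ∀ ψ : P →ₗ[R] C, ∃ φ : P →ₗ[R] B, π ∘ₗ φ = ψ := by
  classical
  constructor
  · rintro ⟨ι, f, i, p, hip⟩ B C _ _ _ _ π hπ hpure ψ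
    let χ : (⨁ j, R ⧸ Ideal.span {f j}) →ₗ[R] C := ψ ∘ₗ p
    have key : ∀ j : ι, ∃ b : B, π b = χ (DirectSum.lof R ι _ j (Ideal.Quotient.mk _ 1)) ∧
        f j • b = 0 := by
      intro j
      obtain ⟨b, hb⟩ := hπ (χ (DirectSum.lof R ι _ j (Ideal.Quotient.mk _ 1)))
      have h0 : π (f j • b) = 0 := by
        rw [map_smul, hb, ← map_smul, ← map_smul]
        have : f j • (Ideal.Quotient.mk (Ideal.span {f j}) 1) = 0 := by
          rw [← Ideal.Quotient.mk_eq_mk, ← Submodule.Quotient.mk_smul, smul_eq_mul, mul_one]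
          exact (Submodule.Quotient.mk_eq_zero _).2 (Ideal.subset_span rfl)
        rw [this, map_zero, map_zero]
      obtain ⟨a, ha1, ha2⟩ := hpure (f j) b h0
      refine ⟨b - a, ?_, ?_⟩
      · rw [map_sub, ha1, sub_zero, hb]
      · rw [smul_sub, ha2, sub_self]
    choose b hb1 hb2 using key
    let φ' : (⨁ j, R ⧸ Ideal.span {f j}) →ₗ[R] B :=
      DirectSum.toModule R ι B (fun j => cyc (f j) (b j) (hb2 j))
    have hφ' : π ∘ₗ φ' = χ := by
      apply DirectSum.linearMap_ext
      intro j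
      apply lin_ext_cyc
      simp only [LinearMap.coe_comp, Function.comp_apply, φ', DirectSum.toModule_lof]
      rw [cyc_mk, one_smul, hb1]
    refine ⟨φ' ∘ₗ i, ?_⟩
    rw [← LinearMap.comp_assoc, hφ']
    show (ψ ∘ₗ p) ∘ₗ i = ψ
    rw [LinearMap.comp_assoc, hip, LinearMap.comp_id]
  · intro H
    let ι : Type u := {x : R × P // x.1 • x.2 = 0}
    let f : ι → R := fun x => x.1.1
    let π : (⨁ j, R ⧸ Ideal.span {f j}) →ₗ[R] P :=
      DirectSum.toModule R ι P (fun j => cyc (f j) j.1.2 j.2)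
    have hπgen : ∀ j : ι, π (DirectSum.lof R ι _ j (Ideal.Quotient.mk _ 1)) = j.1.2 := by
      intro j
      simp only [π, DirectSum.toModule_lof]
      rw [cyc_mk, one_smul]
    have hπ : Function.Surjective π := by
      intro x
      refine ⟨DirectSum.lof R ι _ ⟨(0, x), zero_smul R x⟩ (Ideal.Quotient.mk _ 1), ?_⟩
      rw [hπgen]
    have hpure : ∀ (r : R) (b : ⨁ j, R ⧸ Ideal.span {f j}), π (r • b) = 0 →
        ∃ a, π a = 0 ∧ r • a = r • b := by
      intro r b hb
      rw [map_smul] at hb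
      let j : ι := ⟨(r, π b), hb⟩
      let b' := DirectSum.lof R ι (fun j => R ⧸ Ideal.span {f j}) j (Ideal.Quotient.mk _ 1)
      have hb' : π b' = π b := hπgen j
      have hrb' : r • b' = 0 := by
        show r • DirectSum.lof R ι (fun j => R ⧸ Ideal.span {f j}) j (Ideal.Quotient.mk _ 1) = 0
        rw [← map_smul]
        have : r • (Ideal.Quotient.mk (Ideal.span {f j}) 1) = 0 := by
          rw [← Ideal.Quotient.mk_eq_mk, ← Submodule.Quotient.mk_smul, smul_eq_mul, mul_one]
          exact (Submodule.Quotient.mk_eq_zero _).2 (Ideal.subset_span rfl)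
        rw [this, map_zero]
      refine ⟨b - b', ?_, ?_⟩
      · rw [map_sub, hb', sub_self]
      · rw [smul_sub, hrb', sub_zero]
    obtain ⟨φ, hφ⟩ := H _ P π hπ hpure LinearMap.id
    exact ⟨ι, f, φ, π, hφ⟩

end Groth.Agent.Helper5.RDProj
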