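import Mathlib

namespace Groth.Agent.Lib.Helper5.Steinitz

open CommRing TensorProduct

section Ideals

variable {R : Type*} [CommRing R] [IsDedekindDomain R]

/-- coprime complement: for nonzero `I`, `J` there is `K` with `I * K` principal (nonzero) and
`K` coprime to `J`. -/
lemma exists_coprime_compl {I J : Ideal R} (hI : I ≠ ⊥) (hJ : J ≠ ⊥) :
    ∃ (K : Ideal R) (a : R), a ≠ 0 ∧ I * K = Ideal.span {a} ∧ K ⊔ J = ⊤ := by
  have hIJ : I * J ≠ ⊥ := mul_ne_zero hI hJ
  obtain ⟨a0, ha0⟩ := IsDedekindDomain.exists_sup_span_eq (Ideal.mul_le_left : I * J ≤ I) hIJ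
  obtain ⟨a, ha, hane⟩ : ∃ a, I * J ⊔ Ideal.span {a} = I ∧ a ≠ 0 := by
    by_cases h0 : a0 = 0
    · subst h0
      obtain ⟨a', ha'mem, ha'ne⟩ := Submodule.exists_mem_ne_zero_of_ne_bot hIJ
      refine ⟨a', ?_, ha'ne⟩
      have h1 : I * J = I := by simpa using ha0
      rw [h1]
      apply sup_eq_left.2
      rw [Ideal.span_singleton_le_iff_mem, ← h1]
      exact ha'mem
    · exact ⟨a0, ha0, h0⟩
  have hle : Ideal.span {a} ≤ I := by rw [← ha]; exact le_sup_right
  obtain ⟨K, hK⟩ := Ideal.dvd_iff_le.mpr hle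
  refine ⟨K, a, hane, hK.symm, ?_⟩
  have : I * (K ⊔ J) = I * ⊤ := by
    rw [Ideal.mul_sup, ← hK, Ideal.mul_top, sup_comm]; exact ha
  exact mul_left_cancel₀ hI this

end Ideals

section Domain

variable {R : Type*} [CommRing R] [IsDomain R]

/-- multiplication by a nonzero element: `I ≃ (a) * I`. -/
noncomputable def mulSingletonEquiv (a : R) (ha : a ≠ 0) (I : Ideal R) :
    I ≃ₗ[R] ↥(Ideal.span {a} * I) :=
  LinearEquiv.ofBijective
    ({ toFun := fun x : I => (⟨a * x.1, Ideal.mul_mem_mul (Ideal.mem_span_singleton_self a) x.2⟩ :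
          ↥(Ideal.span {a} * I))
       map_add' := fun x y => Subtype.ext (by simp [mul_add])
       map_smul' := fun r x => Subtype.ext (by simp [mul_left_comm]) } : I →ₗ[R] ↥(Ideal.span {a} * I))
    ⟨fun x y h => by
        have h' : a * (x : R) = a * (y : R) := congrArg Subtype.val h
        exact Subtype.ext (mul_left_cancel₀ ha h'),
      fun y => by
        obtain ⟨z, hz, hzy⟩ := Ideal.mem_span_singleton_mul.1 y.2
        exact ⟨⟨z, hz⟩, Subtype.ext hzy⟩⟩

lemma nonempty_equiv_of_mul_eq {a b : R} (ha : a ≠ 0) (hb : b ≠ 0) {I J : Ideal R}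
    (h : Ideal.span {a} * I = Ideal.span {b} * J) : Nonempty (I ≃ₗ[R] J) :=
  ⟨(mulSingletonEquiv a ha I).trans ((LinearEquiv.ofEq _ _ h).trans (mulSingletonEquiv b hb J).symm)⟩

end Domain

section Coprime

variable {R : Type*} [CommRing R]

lemma nonempty_coprime_equiv {I J : Ideal R} (h : I ⊔ J = ⊤) :
    Nonempty ((I × J) ≃ₗ[R] (R × ↥(I * J))) := by
  have h1 : (1 : R) ∈ I ⊔ J := by rw [h]; exact Submodule.mem_top
  obtain ⟨u, hu, v, hv, huv⟩ := Submodule.mem_sup.1 h1
  have hIJI : I * J ≤ I := Ideal.mul_le_left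
  have hIJJ : I * J ≤ J := Ideal.mul_le_right
  refine ⟨
    { toFun := fun p => (p.1.1 + p.2.1, ⟨v * p.1.1 - u * p.2.1, ?_⟩)
      map_add' := ?_
      map_smul' := ?_
      invFun := fun q => (⟨u * q.1 + q.2.1, ?_⟩, ⟨v * q.1 - q.2.1, ?_⟩)
      left_inv := ?_
      right_inv := ?_ }⟩
  · apply Submodule.sub_mem
    · rw [mul_comm v]; exact Ideal.mul_mem_mul p.1.2 hv
    · exact Ideal.mul_mem_mul hu p.2.2
  · intro p q
    apply Prod.ext
    · simp only [Prod.fst_add, Submodule.coe_add, Prod.snd_add]; ring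
    · apply Subtype.ext
      simp only [Prod.fst_add, Submodule.coe_add, Prod.snd_add]; ring
  · intro r p
    apply Prod.ext
    · simp only [Prod.smul_fst, Submodule.coe_smul, Prod.smul_snd, smul_eq_mul, RingHom.id_apply]
      ring
    · apply Subtype.ext
      simp only [Prod.smul_fst, Submodule.coe_smul, Prod.smul_snd, smul_eq_mul, RingHom.id_apply]
      ring
  · exact Submodule.add_mem _ (Ideal.mul_mem_right _ _ hu) (hIJI q.2.2)
  · exact Submodule.sub_mem _ (Ideal.mul_mem_right _ _ hv) (hIJJ q.2.2)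
  · intro p
    apply Prod.ext
    · apply Subtype.ext
      simp only
      linear_combination (p.1.1 : R) * huv
    · apply Subtype.ext
      simp only
      linear_combination (p.2.1 : R) * huv
  · intro q
    apply Prod.ext
    · simp only
      linear_combination q.1 * huv
    · apply Subtype.ext
      simp only
      linear_combination (q.2.1 : R) * huv

end Coprime

section Main

universe u v w

variable {R : Type u} [CommRing R] [IsDedekindDomain R]

lemma nonempty_tensor_equiv_mul (I J : Ideal R) [Module.Flat R J] :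
    Nonempty ((I ⊗[R] J) ≃ₗ[R] ↥(I * J)) := by
  have hd : Submodule.LinearDisjoint (R := R) (S := R) I J :=
    Submodule.LinearDisjoint.of_left_le_one_of_flat I J (le_top.trans Ideal.one_eq_top.ge)
  exact ⟨hd.mulMap⟩

lemma ideal_ne_bot_of_equiv {N : Type v} [AddCommGroup N] [Module R N] [Module.Invertible R N]
    {I : Ideal R} (e : N ≃ₗ[R] I) : I ≠ ⊥ := by
  rintro rfl
  have h1 : ∀ x : N, x = 0 := by
    intro x
    have : e x = 0 := Subsingleton.elim _ _
    simpa using this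
  have h2 : (1 : R) = 0 := by
    apply FaithfulSMul.eq_of_smul_eq_smul (M := R) (α := N)
    intro x
    rw [h1 x, smul_zero, smul_zero]
  exact one_ne_zero h2

/-- ideal version: `I × J ≃ R × (I * J)` for nonzero ideals of a Dedekind domain. -/
lemma nonempty_prod_equiv_ideal {I J : Ideal R} (hI : I ≠ ⊥) (hJ : J ≠ ⊥) :
    Nonempty ((I × J) ≃ₗ[R] (R × ↥(I * J))) := by
  obtain ⟨K, a, ha, hIK, -⟩ := exists_coprime_compl hI hJ
  have hK : K ≠ ⊥ := by
    rintro rfl
    rw [Ideal.mul_bot] at hIK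
    exact ha (Ideal.span_singleton_eq_bot.1 hIK.symm)
  obtain ⟨K', b, hb, hKK', hcop⟩ := exists_coprime_compl hK hJ
  have h1 : Ideal.span {a} * K' = Ideal.span {b} * I := by
    rw [← hIK, ← hKK', mul_assoc, mul_comm (K * K')]
  have h2 : Ideal.span {a} * (K' * J) = Ideal.span {b} * (I * J) := by
    rw [← mul_assoc, h1, mul_assoc]
  obtain ⟨e1⟩ := nonempty_equiv_of_mul_eq ha hb h1
  obtain ⟨e2⟩ := nonempty_equiv_of_mul_eq ha hb h2
  obtain ⟨e3⟩ := nonempty_coprime_equiv hcop
  exact ⟨((e1.symm.prodCongr (LinearEquiv.refl R J)).trans e3).trans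
    ((LinearEquiv.refl R R).prodCongr e2)⟩

/-- module version -/
lemma nonempty_prod_equiv (N₁ : Type v) (N₂ : Type w) [AddCommGroup N₁] [Module R N₁]
    [Module.Invertible R N₁] [AddCommGroup N₂] [Module R N₂] [Module.Invertible R N₂] :
    Nonempty ((N₁ × N₂) ≃ₗ[R] (R × (N₁ ⊗[R] N₂))) := by
  obtain ⟨I, ⟨e1⟩⟩ := Module.Invertible.exists_linearEquiv_ideal R N₁
  obtain ⟨J, ⟨e2⟩⟩ := Module.Invertible.exists_linearEquiv_ideal R N₂
  have hI := ideal_ne_bot_of_equiv e1
  have hJ := ideal_ne_bot_of_equiv e2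
  haveI : Module.Flat R J := Module.Flat.of_linearEquiv e2.symm
  obtain ⟨e3⟩ := nonempty_prod_equiv_ideal hI hJ
  obtain ⟨e4⟩ := nonempty_tensor_equiv_mul I J
  exact ⟨((e1.prodCongr e2).trans e3).trans
    ((LinearEquiv.refl R R).prodCongr (e4.symm.trans (TensorProduct.congr e1 e2).symm))⟩

/-- Steinitz: `N^{n+1} ≃ R^n × T` with `[T] = [N]^{n+1}`. -/
lemma exists_steinitz (N : Type v) [AddCommGroup N] [Module R N] [Module.Invertible R N] (n : ℕ) :
    ∃ (T : Type v) (_ : AddCommGroup T) (_ : Module R T) (_ : Module.Invertible R T),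
      Pic.mk R T = Pic.mk R N ^ (n + 1) ∧
        Nonempty ((Fin (n + 1) → N) ≃ₗ[R] ((Fin n → R) × T)) := by
  induction n with
  | zero =>
    refine ⟨N, inferInstance, inferInstance, inferInstance, by rw [zero_add, pow_one], ?_⟩
    exact ⟨(LinearEquiv.funUnique (Fin 1) R N).trans
      (LinearEquiv.prodUnique (R := R) (M := N) (M₂ := Fin 0 → R)).symm |>.trans
      (LinearEquiv.prodComm R N (Fin 0 → R))⟩
  | succ n ih =>
    obtain ⟨T, i1, i2, i3, hT, ⟨e⟩⟩ := ih
    refine ⟨N ⊗[R] T, inferInstance, inferInstance, inferInstance, ?_, ?_⟩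
    · rw [Pic.mk_tensor, hT, ← pow_succ']
    · obtain ⟨e2⟩ := nonempty_prod_equiv (R := R) N T
      -- (Fin (n+2) → N) ≃ N × (Fin (n+1) → N)
      have e0 : (Fin (n + 1 + 1) → N) ≃ₗ[R] (N × (Fin (n + 1) → N)) :=
        (Fin.consLinearEquiv R (fun _ : Fin (n + 1 + 1) => N)).symm
      have e1 : (N × (Fin (n + 1) → N)) ≃ₗ[R] (N × ((Fin n → R) × T)) :=
        (LinearEquiv.refl R N).prodCongr e
      -- N × (A × T) ≃ A × (N × T)
      have e3 : (N × ((Fin n → R) × T)) ≃ₗ[R] ((Fin n → R) × (N × T)) :=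
        (LinearEquiv.prodAssoc R N (Fin n → R) T).symm.trans
          (((LinearEquiv.prodComm R N (Fin n → R)).prodCongr (LinearEquiv.refl R T)).trans
            (LinearEquiv.prodAssoc R (Fin n → R) N T))
      have e4 : ((Fin n → R) × (N × T)) ≃ₗ[R] ((Fin n → R) × (R × (N ⊗[R] T))) :=
        (LinearEquiv.refl R _).prodCongr e2
      have e5 : ((Fin n → R) × (R × (N ⊗[R] T))) ≃ₗ[R] ((Fin (n + 1) → R) × (N ⊗[R] T)) :=
        (LinearEquiv.prodAssoc R (Fin n → R) R (N ⊗[R] T)).symm.trans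
          (((LinearEquiv.prodComm R (Fin n → R) R).trans
            (Fin.consLinearEquiv R (fun _ : Fin (n + 1) => R))).prodCongr (LinearEquiv.refl R _))
      exact ⟨e0.trans (e1.trans (e3.trans (e4.trans e5)))⟩

theorem main (N : Type v) [AddCommGroup N] [Module R N] [Module.Invertible R N]
    (n : ℕ) (h : Pic.mk R N ^ n = 1) :
    Nonempty ((Fin n → N) ≃ₗ[R] (Fin n → R)) := by
  cases n with
  | zero =>
    exact ⟨LinearEquiv.ofSubsingleton _ _⟩
  | succ n =>
    obtain ⟨T, i1, i2, i3, hT, ⟨e⟩⟩ := exists_steinitz (R := R) N n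
    rw [h] at hT
    obtain ⟨e1⟩ := Pic.mk_eq_one_iff.1 hT
    have e2 : ((Fin n → R) × T) ≃ₗ[R] (Fin (n + 1) → R) :=
      ((LinearEquiv.refl R _).prodCongr e1).trans
        ((LinearEquiv.prodComm R (Fin n → R) R).trans
          (Fin.consLinearEquiv R (fun _ : Fin (n + 1) => R)))
    exact ⟨e.trans e2⟩

end Main

end Groth.Agent.Lib.Helper5.Steinitz
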